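import Mathlib
import Cfsg.Agent.Oct.Basic

/-!
# Involutions of an octonion algebra

An involutory automorphism `z` of an 8-dimensional composition algebra (characteristic not 2)
splits it as the Cayley–Dickson double of a quaternion algebra `H`, and the centralizer of `z`
is the special orthogonal group of the norm of `H`.
-/

set_option autoImplicit false

namespace Cfsg.Agent.Oct

open QuadraticMap Module Cfsg.Agent.Cl

universe u

variable {F : Type*} [Field F]

section Quat

variable {H : Type*} [Ring H] [Algebra F H]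

/-- A quaternion algebra with its conjugation and norm. -/
structure IsQuat (c : H →ₗ[F] H) (N : QuadraticForm F H) : Prop where
  c_mul : ∀ a b, c (a * b) = c b * c a
  c_c : ∀ a, c (c a) = a
  c_def : ∀ a, c a = polar N a 1 • (1 : H) - a
  mul_c : ∀ a, a * c a = N a • (1 : H)
  c_mul_self : ∀ a, c a * a = N a • (1 : H)
  N_mul : ∀ a b, N (a * b) = N a * N b
  N_c : ∀ a, N (c a) = N a
  N_one : N 1 = 1
  nondeg : (polarBilin N).Nondegenerate
  finrank_eq : finrank F H = 4

/-- The Cayley–Dickson product. -/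
def dmul (c : H →ₗ[F] H) (lam : F) (x y : H × H) : H × H :=
  (x.1 * y.1 + lam • (c y.2 * x.2), y.2 * x.1 + x.2 * c y.1)

namespace IsQuat

variable {c : H →ₗ[F] H} {N : QuadraticForm F H} (h : IsQuat c N)
include h

theorem finiteDimensional : FiniteDimensional F H :=
  Module.finite_of_finrank_pos (by rw [h.finrank_eq]; norm_num)

theorem c_one : c 1 = 1 := by
  have := h.mul_c 1
  rwa [one_mul, h.N_one, one_smul] at this

theorem lin (a b : H) : a * c b + b * c a = polar N a b • (1 : H) := by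
  have h1 := h.mul_c (a + b)
  simp only [map_add, add_mul, mul_add, h.mul_c, o_qadd, add_smul] at h1
  rw [← sub_eq_zero] at h1 ⊢
  rw [← h1]; abel

theorem orefl_eq {v : H} (hv : N v ≠ 0) (x : H) :
    (orefl N v).1 x = -((N v)⁻¹ • (v * c x * v)) := by
  have h1 : v * c x = polar N x v • (1 : H) - x * c v := by
    rw [← h.lin]; abel
  rw [orefl_app, h1, sub_mul, mul_assoc, h.c_mul_self, smul_mul_assoc, one_mul, mul_smul_comm,
    mul_one, smul_sub, smul_smul, smul_smul, inv_mul_cancel₀ hv, one_smul, neg_sub]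

theorem mul_c_mul (a b : H) : a * (c a * b) = N a • b := by
  rw [← mul_assoc, h.mul_c, smul_mul_assoc, one_mul]

theorem c_mul_mul (a b : H) : c a * (a * b) = N a • b := by
  rw [← mul_assoc, h.c_mul_self, smul_mul_assoc, one_mul]

theorem not_comm (h2 : (2 : F) ≠ 0) (hc : ∀ a b : H, a * b = b * a) : False := by
  have := h.finiteDimensional
  obtain ⟨x, hx, hx1⟩ := o_exists_nonsingular_perp_one h.nondeg
    (by rw [h.finrank_eq]; norm_num) (1 : H)
  have h10 : (1 : H) ≠ 0 := o_ne_zero_of_norm (Q := N) (by rw [h.N_one]; exact one_ne_zero)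
  have hpure : ∀ y, polar N 1 y = 0 → c y = -y := fun y hy => by
    rw [h.c_def, polar_comm, hy, zero_smul, zero_sub]
  have h1 : operp N (Submodule.span F {(1 : H)}) ≤ Submodule.span F {x} := by
    intro y hy
    have hy' : polar N 1 y = 0 := mem_operp_span.1 hy 1 rfl
    have h3 := h.lin y x
    have h4 : x * c y * c x = -(N x • y) := by
      rw [hpure y hy', mul_neg, hc x y, neg_mul, mul_assoc, h.mul_c, mul_smul_comm, mul_one]
    have h5 : y * c x * c x = -(N x • y) := by
      nth_rewrite 1 [hpure x hx1]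
      rw [mul_neg, neg_mul, mul_assoc, h.mul_c, mul_smul_comm, mul_one]
    have h6 := congrArg (· * c x) h3
    simp only [add_mul, h4, h5, smul_mul_assoc, one_mul] at h6
    rw [hpure x hx1, smul_neg, ← neg_add, neg_inj, ← two_smul F, smul_smul] at h6
    rw [Submodule.mem_span_singleton]
    refine ⟨(2 * N x)⁻¹ * polar N y x, ?_⟩
    rw [mul_smul, ← h6, smul_smul, inv_mul_cancel₀ (mul_ne_zero h2 hx), one_smul]
  have h5 := Submodule.finrank_mono h1
  have h6 := finrank_operp h.nondeg (Submodule.span F {(1 : H)})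
  rw [finrank_span_singleton h10, h.finrank_eq] at h6
  rw [finrank_span_singleton (o_ne_zero_of_norm hx)] at h5
  omega

theorem disc_isSquare [Finite F] (h2 : (2 : F) ≠ 0) {ι : Type*} [Fintype ι] [DecidableEq ι]
    (b : Basis ι F H) : IsSquare (quad_disc N b) := by
  have := h.finiteDimensional
  have h1 := (o_exists_max_singular_iff_disc h2 h.nondeg (m := 2) h.finrank_eq b).1 ?_
  · simpa using h1
  obtain ⟨a, ha0, ha⟩ := quad_exists_singular N (by rw [h.finrank_eq]; norm_num)
  let L : H →ₗ[F] H := LinearMap.mulLeft F a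
  have h1 : ∀ u ∈ LinearMap.range L, N u = 0 := by
    rintro _ ⟨u, rfl⟩
    rw [LinearMap.mulLeft_apply, h.N_mul, ha, zero_mul]
  have h3 : ∀ u ∈ LinearMap.ker L, N u = 0 := fun u hu => by
    by_contra hu'
    have h4 : a * u = 0 := hu
    have h5 : a * (u * c u) = 0 := by rw [← mul_assoc, h4, zero_mul]
    rw [h.mul_c, mul_smul_comm, mul_one] at h5
    exact ha0 ((smul_eq_zero.1 h5).resolve_left hu')
  have h4 := o_two_mul_finrank_le h.nondeg h1
  have h5 := o_two_mul_finrank_le h.nondeg h3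
  have h6 := L.finrank_range_add_finrank_ker
  rw [h.finrank_eq] at h4 h5 h6
  exact ⟨_, by omega, h1⟩

/-- The automorphism `(a, b) ↦ (p a p⁻¹, q b p⁻¹)` of the double, as a linear map. -/
def phiL (_h : IsQuat c N) (p q : H) : (H × H) →ₗ[F] (H × H) :=
  ((N p)⁻¹ • (LinearMap.mulLeft F p).comp (LinearMap.mulRight F (c p))).prodMap
    ((N p)⁻¹ • (LinearMap.mulLeft F q).comp (LinearMap.mulRight F (c p)))

theorem phiL_apply (p q : H) (x : H × H) :
    h.phiL p q x = ((N p)⁻¹ • (p * (x.1 * c p)), (N p)⁻¹ • (q * (x.2 * c p))) := rfl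

theorem phiL_phiL {p q : H} (hp : N p ≠ 0) (hq : N q = N p) (x : H × H) :
    h.phiL p q (h.phiL (c p) (c q) x) = x := by
  rw [phiL_apply, phiL_apply]
  simp only [h.c_c, h.N_c, smul_mul_assoc, mul_smul_comm, mul_assoc, h.mul_c, h.mul_c_mul, mul_one,
    smul_smul, hq]
  ext
  · simp only
    rw [show (N p)⁻¹ * ((N p)⁻¹ * (N p * N p)) = 1 by field_simp, one_smul]
  · simp only
    rw [show (N p)⁻¹ * ((N p)⁻¹ * (N p * N p)) = 1 by field_simp, one_smul]

theorem phiL_dmul (lam : F) {p q : H} (hp : N p ≠ 0) (hq : N q = N p) (x y : H × H) :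
    h.phiL p q (dmul c lam x y) = dmul c lam (h.phiL p q x) (h.phiL p q y) := by
  simp only [phiL_apply, dmul, map_smul, h.c_mul, h.c_c, smul_mul_assoc, mul_smul_comm, mul_assoc,
    h.c_mul_mul, smul_smul, hq, add_mul, mul_add, smul_add]
  have e1 : (N p)⁻¹ * ((N p)⁻¹ * N p) = (N p)⁻¹ := by field_simp
  have e2 : lam * ((N p)⁻¹ * ((N p)⁻¹ * N p)) = (N p)⁻¹ * lam := by field_simp
  rw [e2, e1]

end IsQuat

variable {V : Type*} [AddCommGroup V] [Module F V] {A : Comp F V} {c : H →ₗ[F] H}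
  {N : QuadraticForm F H} {lam : F} {z : A.Aut} {e : (H × H) ≃ₗ[F] V}

/-- The action of an automorphism on the second summand of the double. -/
def beta (e : (H × H) ≃ₗ[F] V) (g : A.Aut) : H →ₗ[F] H :=
  (LinearMap.snd F H H) ∘ₗ e.symm.toLinearMap ∘ₗ g.1.toLinearMap ∘ₗ e.toLinearMap ∘ₗ
    LinearMap.inr F H H

theorem beta_spec (h2 : (2 : F) ≠ 0) (hz : ∀ x, z.1 (e x) = e (x.1, -x.2)) {g : A.Aut}
    (hg : g ∈ Subgroup.centralizer ({z} : Set A.Aut)) (b : H) :
    g.1 (e (0, b)) = e (0, beta e g b) := by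
  have h1 : z * g = g * z := hg z rfl
  obtain ⟨w, hw⟩ := e.surjective (g.1 (e (0, b)))
  have h3 : beta e g b = w.2 := by
    change (e.symm (g.1 (e (0, b)))).2 = _
    rw [← hw, e.symm_apply_apply]
  have h4 : z.1 (g.1 (e (0, b))) = g.1 (z.1 (e (0, b))) :=
    congrArg (fun k : A.Aut => k.1 (e (0, b))) h1
  have h5 : ((0, -b) : H × H) = -(0, b) := by simp
  rw [hz (0, b), h5, map_neg, map_neg, ← hw, hz, ← map_neg] at h4
  have h6 : w.1 = -w.1 := congrArg Prod.fst (e.injective h4)
  have h7 : w.1 = 0 := by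
    rw [eq_neg_iff_add_eq_zero, ← two_smul F] at h6
    exact (smul_eq_zero.1 h6).resolve_left h2
  rw [h3, ← hw, ← h7]

theorem exists_rho [Finite F] (h2 : (2 : F) ≠ 0) (h : IsQuat c N) (hlam : lam ≠ 0)
    (hm : ∀ x y, e (dmul c lam x y) = A.m (e x) (e y)) (hz : ∀ x, z.1 (e x) = e (x.1, -x.2)) :
    ∃ ρ : Subgroup.centralizer ({z} : Set A.Aut) →* OG N, Function.Injective ρ ∧
      ∀ [FiniteDimensional F H], ρ.range = (dickson h.nondeg).ker := by
  have he1 : e (1, 0) = A.e := by
    obtain ⟨w, hw⟩ := e.surjective A.e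
    have := hm (1, 0) w
    rw [hw, A.mul_one] at this
    rw [← this, ← hw]
    simp [dmul]
  have hdd : ∀ b d : H, A.m (e (0, b)) (e (0, d)) = lam • e (c d * b, 0) := fun b d => by
    rw [← hm, ← map_smul]
    simp [dmul]
  have hmul : ∀ (g k : Subgroup.centralizer ({z} : Set A.Aut)) (b : H),
      beta e (g * k).1 b = beta e g.1 (beta e k.1 b) :=
    fun g k b => by
      have h1 : g.1.1 (k.1.1 (e (0, b))) = e (0, beta e (g * k).1 b) := beta_spec h2 hz (g * k).2 b
      rw [beta_spec h2 hz k.2, beta_spec h2 hz g.2] at h1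
      have h3 := e.injective h1
      rw [Prod.mk.injEq] at h3
      exact h3.2.symm
  have hone : ∀ b : H, beta e (1 : A.Aut) b = b := fun b => by
    change (e.symm (e (0, b))).2 = _
    rw [e.symm_apply_apply]
  have hN : ∀ (g : Subgroup.centralizer ({z} : Set A.Aut)) (b : H), N (beta e g.1 b) = N b :=
    fun g b => by
      have h1 := Comp.aut_mul g.1 (e (0, b)) (e (0, b))
      have h3 : ∀ t : F, e (t • 1, 0) = t • A.e := fun t => by
        rw [← he1, ← map_smul]; simp
      rw [beta_spec h2 hz g.2, hdd, hdd, h.c_mul_self, h.c_mul_self, h3, h3,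
        LinearEquiv.map_smul, LinearEquiv.map_smul, Comp.aut_e] at h1
      exact (smul_left_injective F A.e_ne_zero (smul_right_injective _ hlam h1)).symm
  let ρ : Subgroup.centralizer ({z} : Set A.Aut) →* OG N :=
    { toFun := fun g => OG.ofLinear (beta e g.1) (beta e (g⁻¹).1)
        (fun b => by rw [← hmul, mul_inv_cancel]; exact hone b)
        (fun b => by rw [← hmul, inv_mul_cancel]; exact hone b) (hN g)
      map_one' := OG.ext hone
      map_mul' := fun g k => OG.ext (hmul g k) }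
  have hρ : ∀ g b, (ρ g).1 b = beta e g.1 b := fun _ _ => rfl
  have hfst : ∀ (g : Subgroup.centralizer ({z} : Set A.Aut)) (a : H),
      g.1.1 (e (a, 0)) = e (c (beta e g.1 (c a)) * beta e g.1 1, 0) := fun g a => by
    have h1 := Comp.aut_mul g.1 (e (0, 1)) (e (0, c a))
    rw [beta_spec h2 hz g.2, beta_spec h2 hz g.2, hdd, hdd, LinearEquiv.map_smul, h.c_c,
      mul_one] at h1
    exact smul_right_injective _ hlam h1
  refine ⟨ρ, ?_, fun {_} => ?_⟩
  · rw [injective_iff_map_eq_one]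
    intro g hg
    have h1 : ∀ b, beta e g.1 b = b := fun b => by rw [← hρ, hg]; rfl
    refine Subtype.ext (Subtype.ext (LinearEquiv.ext fun v => ?_))
    obtain ⟨⟨a, b⟩, rfl⟩ := e.surjective v
    have h3 : ((a, b) : H × H) = (a, 0) + (0, b) := by simp
    rw [h3, map_add, map_add, hfst, beta_spec h2 hz g.2, h1, h1, h1, h.c_c, mul_one]
    rfl
  have hle : (dickson h.nondeg).ker ≤ ρ.range := by
    rw [ker_dickson_eq_closure h.nondeg (not_oExc_of_two_ne_zero h2), Subgroup.closure_le]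
    rintro _ ⟨u, v, hu, hv, rfl⟩
    have hp : N (c u * v) ≠ 0 := by rw [h.N_mul, h.N_c]; exact mul_ne_zero hu hv
    have hq : N (u * c v) = N (c u * v) := by rw [h.N_mul, h.N_mul, h.N_c, h.N_c]
    let φ : (H × H) ≃ₗ[F] (H × H) := LinearEquiv.ofLinearMap (h.phiL (c u * v) (u * c v))
      (h.phiL (c (c u * v)) (c (u * c v))) (LinearMap.ext (h.phiL_phiL hp hq))
      (LinearMap.ext fun x => by
        have := h.phiL_phiL (p := c (c u * v)) (q := c (u * c v)) (by rwa [h.N_c])
          (by rw [h.N_c, h.N_c, hq]) x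
        rwa [h.c_c, h.c_c] at this)
    have hφ : ∀ x, autCongr e φ (e x) = e (h.phiL (c u * v) (u * c v) x) := fun x =>
      autCongr_apply_apply e φ x
    let g : A.Aut := ⟨autCongr e φ, fun x y => by
      obtain ⟨x, rfl⟩ := e.surjective x
      obtain ⟨y, rfl⟩ := e.surjective y
      rw [← hm, hφ, hφ, hφ, h.phiL_dmul lam hp hq, hm]⟩
    have hg : g ∈ Subgroup.centralizer ({z} : Set A.Aut) := by
      intro w hw
      rw [Set.mem_singleton_iff.1 hw]
      refine Subtype.ext (LinearEquiv.ext fun x => ?_)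
      obtain ⟨x, rfl⟩ := e.surjective x
      change z.1 (autCongr e φ (e x)) = autCongr e φ (z.1 (e x))
      rw [hz x, hφ, hφ, hz]
      simp [h.phiL_apply]
    refine ⟨⟨g, hg⟩, OG.ext fun b => ?_⟩
    have h1 := beta_spec h2 hz hg b
    change autCongr e φ _ = _ at h1
    rw [hφ] at h1
    have h3 : beta e g b = (h.phiL (c u * v) (u * c v) (0, b)).2 := by rw [e.injective h1]
    rw [hρ, h3, OG.mul_app, h.orefl_eq hu, h.orefl_eq hv, h.phiL_apply]
    simp only [map_neg, map_smul, h.c_mul, h.c_c, h.N_mul, h.N_c, mul_neg, neg_mul, smul_neg,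
      neg_neg, mul_smul_comm, smul_mul_assoc, smul_smul, mul_assoc, mul_inv]
  refine le_antisymm ?_ hle
  rintro _ ⟨g, rfl⟩
  by_contra hg
  have hg' : dickson h.nondeg (ρ g) = -1 := (Int.units_eq_one_or _).resolve_left hg
  have h1N : N 1 ≠ 0 := by rw [h.N_one]; exact one_ne_zero
  have h3 : (ρ g)⁻¹ * (OG.negOne N * orefl N 1) ∈ (dickson h.nondeg).ker := by
    rw [MonoidHom.mem_ker, map_mul, map_mul, map_inv, hg', dickson_negOne _ h2,
      dickson_orefl _ h1N, h.finrank_eq]
    decide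
  have h4 : OG.negOne N * orefl N 1 ∈ ρ.range := by
    have := ρ.range.mul_mem ⟨g, rfl⟩ (hle h3)
    rwa [mul_inv_cancel_left] at this
  obtain ⟨k, hk⟩ := h4
  have h5 : ∀ b, beta e k.1 b = c b := fun b => by
    rw [← hρ, hk, OG.mul_app, h.orefl_eq h1N, h.N_one]
    simp
  have h6 : ∀ a, k.1.1 (e (a, 0)) = e (c a, 0) := fun a => by
    rw [hfst, h5, h5, h.c_c, h.c_one, mul_one]
  refine h.not_comm h2 fun a b => ?_
  have h7 : ∀ a b : H, A.m (e (a, 0)) (e (b, 0)) = e (a * b, 0) := fun a b => by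
    rw [← hm]; simp [dmul]
  have h8 := Comp.aut_mul k.1 (e (c a, 0)) (e (c b, 0))
  rw [h7, h6, h6, h6, h7, h.c_mul, h.c_c, h.c_c] at h8
  exact (congrArg Prod.fst (e.injective h8)).symm

end Quat

section Split

variable {V : Type u} [AddCommGroup V] [Module F V] {A : Comp F V} {z : A.Aut}

theorem perp_of (h2 : (2 : F) ≠ 0) {x y : V} (hx : z.1 x = x) (hy : z.1 y = -y) :
    polar A.N x y = 0 := by
  have := Comp.aut_polar z x y
  rw [hx, hy, polar_neg_right, neg_eq_iff_add_eq_zero, ← two_mul] at this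
  exact (mul_eq_zero.1 this).resolve_left h2

theorem c_of_neg (h2 : (2 : F) ≠ 0) {y : V} (hy : z.1 y = -y) : A.c y = -y :=
  A.c_of_perp (by rw [polar_comm]; exact perp_of h2 (Comp.aut_e z) hy)

theorem decomp (h2 : (2 : F) ≠ 0) (hz : z * z = 1) (x : V) :
    ∃ a y, z.1 a = a ∧ z.1 y = -y ∧ x = a + y := by
  have h1 : z.1 (z.1 x) = x := congrArg (fun k : A.Aut => k.1 x) hz
  refine ⟨(2 : F)⁻¹ • (x + z.1 x), (2 : F)⁻¹ • (x - z.1 x), ?_, ?_, ?_⟩
  · rw [map_smul, map_add, h1, add_comm]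
  · rw [map_smul, map_sub, h1, ← smul_neg, neg_sub]
  · rw [← smul_add, add_add_sub_cancel, ← two_smul F x, smul_smul, inv_mul_cancel₀ h2, one_smul]

theorem exists_ell (h2 : (2 : F) ≠ 0) (hz : z * z = 1) (hz1 : z ≠ 1) :
    ∃ l, z.1 l = -l ∧ A.N l ≠ 0 := by
  by_contra hne
  push Not at hne
  apply hz1
  refine Subtype.ext (LinearEquiv.ext fun x => ?_)
  obtain ⟨a, y, ha, hy, rfl⟩ := decomp h2 hz x
  have : y = 0 := o_eq_zero A.nondeg fun w => by
    obtain ⟨a', y', ha', hy', rfl⟩ := decomp h2 hz w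
    rw [polar_add_right, polar_comm, perp_of h2 ha' hy, zero_add, polar, hne y hy, hne y' hy',
      hne _ (by rw [map_add, hy, hy', neg_add]), sub_zero, sub_zero]
  rw [this, add_zero, ha]
  rfl

section Ell

variable (h2 : (2 : F) ≠ 0) {l : V} (hl : z.1 l = -l)
include h2 hl

theorem f0 {x : V} (hx : z.1 x = x) : A.m x l = A.m l (A.c x) := by
  have := A.lin_e x l
  rwa [perp_of h2 hx hl, zero_smul, c_of_neg h2 hl, map_neg, neg_add_eq_zero] at this

theorem f1 {x y : V} (hx : z.1 x = x) (hy : z.1 y = y) : A.m x (A.m y l) = A.m (A.m y x) l := by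
  have := A.linL x l (A.c y)
  rw [perp_of h2 hx hl, zero_smul, c_of_neg h2 hl, map_neg, LinearMap.neg_apply, map_neg,
    neg_add_eq_zero, ← f0 h2 hl hy, ← A.c_mul] at this
  rw [this, ← f0 h2 hl (by rw [Comp.aut_mul, hx, hy])]

theorem f2 (x : V) {y : V} (hy : z.1 y = y) : A.m (A.m x l) y = A.m (A.m x (A.c y)) l := by
  have := A.linR x y l
  rw [perp_of h2 hy hl, zero_smul, c_of_neg h2 hl, map_neg, map_neg, LinearMap.neg_apply,
    add_neg_eq_zero] at this
  exact this.symm

theorem f3 {x y : V} (hx : z.1 x = x) (hy : z.1 y = y) :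
    A.m (A.m x l) (A.m y l) = (-A.N l) • A.m (A.c y) x := by
  have h1 : z.1 (A.m x l) = -A.m x l := by rw [Comp.aut_mul, hx, hl, map_neg]
  have h3 : A.m (A.m x l) l = -(A.N l • x) := by
    rw [← A.altR', c_of_neg h2 hl, map_neg, neg_neg]
  have := A.linL (A.m x l) (A.c y) l
  rw [polar_comm, perp_of h2 (by rw [Comp.aut_c, hy]) h1, zero_smul, A.c_c, c_of_neg h2 h1,
    map_neg, LinearMap.neg_apply, h3, neg_neg, map_smul, add_eq_zero_iff_eq_neg] at this
  rw [this, neg_smul]

theorem f_assoc (hN : A.N l ≠ 0) {x y w : V} (hx : z.1 x = x) (hy : z.1 y = y) (hw : z.1 w = w) :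
    A.m (A.m x y) w = A.m x (A.m y w) := by
  have hcy : z.1 (A.c y) = A.c y := by rw [Comp.aut_c, hy]
  have h1 : z.1 (A.m x l) = -A.m x l := by rw [Comp.aut_mul, hx, hl, map_neg]
  have := A.linL w (A.m x l) (A.c y)
  rw [perp_of h2 hw h1, zero_smul, c_of_neg h2 h1, map_neg, LinearMap.neg_apply, map_neg,
    neg_add_eq_zero, f2 h2 hl x hcy, A.c_c, f1 h2 hl hw (by rw [Comp.aut_mul, hx, hy]),
    f2 h2 hl x (by rw [Comp.aut_mul, Comp.aut_c, hw, hcy]), A.c_mul, A.c_c, A.c_c] at this
  exact A.mul_right_cancel hN this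

end Ell

theorem exists_double (h2 : (2 : F) ≠ 0) (hV : finrank F V = 8) (hz : z * z = 1) (hz1 : z ≠ 1) :
    ∃ (H : Type u) (_ : Ring H) (_ : Algebra F H) (c : H →ₗ[F] H) (N : QuadraticForm F H)
      (lam : F) (e : (H × H) ≃ₗ[F] V), IsQuat c N ∧ lam ≠ 0 ∧
      (∀ x y, e (dmul c lam x y) = A.m (e x) (e y)) ∧ ∀ x, z.1 (e x) = e (x.1, -x.2) := by
  obtain ⟨l, hl, hN⟩ := exists_ell h2 hz hz1
  let H : Submodule F V := LinearMap.eqLocus z.1.toLinearMap LinearMap.id
  have hH : ∀ x : H, z.1 x = x := fun x => x.2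
  let _ : Ring H :=
    { (inferInstance : AddCommGroup H) with
      mul := fun x y => ⟨A.m x y, by
        change z.1 _ = _
        rw [Comp.aut_mul, hH, hH]; rfl⟩
      one := ⟨A.e, Comp.aut_e z⟩
      left_distrib := fun a b d => Subtype.ext (map_add (A.m a) _ _)
      right_distrib := fun a b d => Subtype.ext (A.m.map_add₂ _ _ _)
      zero_mul := fun a => Subtype.ext (A.m.map_zero₂ _)
      mul_zero := fun a => Subtype.ext (map_zero (A.m a))
      mul_assoc := fun a b d => Subtype.ext (f_assoc h2 hl hN (hH a) (hH b) (hH d))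
      one_mul := fun a => Subtype.ext (A.one_mul _)
      mul_one := fun a => Subtype.ext (A.mul_one _) }
  have hmul : ∀ a b : H, ((a * b : H) : V) = A.m a b := fun _ _ => rfl
  have hone : ((1 : H) : V) = A.e := rfl
  let _ : Algebra F H := Algebra.ofModule
    (fun r a b => Subtype.ext (A.m.map_smul₂ r a.1 b.1))
    (fun r a b => Subtype.ext (map_smul (A.m a) r b.1))
  let c : H →ₗ[F] H := A.c.restrict (p := H) (q := H) fun x hx => by
    change z.1 _ = _
    rw [Comp.aut_c, show z.1 x = x from hx]; rfl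
  have hc : ∀ a : H, (c a : V) = A.c a := fun _ => rfl
  let N : QuadraticForm F H := A.N.comp H.subtype
  have hNa : ∀ a : H, N a = A.N a := fun _ => rfl
  have hpol : ∀ a b : H, polar N a b = polar A.N a b := fun _ _ => rfl
  let e₀ : (H × H) →ₗ[F] V := H.subtype.coprod ((A.m.flip l).comp H.subtype)
  have he₀ : ∀ x : H × H, e₀ x = x.1 + A.m x.2 l := fun _ => rfl
  have hze : ∀ x : H × H, z.1 (e₀ x) = e₀ (x.1, -x.2) := fun x => by
    rw [he₀, he₀, map_add, hH, Comp.aut_mul, hH, hl]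
    simp
  have hinj : Function.Injective e₀ := by
    rw [injective_iff_map_eq_zero]
    intro x hx
    have h1 := hze x
    rw [hx, map_zero, he₀] at h1
    rw [he₀] at hx
    simp only [Submodule.coe_neg, map_neg, LinearMap.neg_apply] at h1
    have h3 : (2 : F) • (x.1 : V) = 0 := by
      rw [two_smul]
      have := congrArg₂ (· + ·) hx h1.symm
      simpa [add_add_add_comm] using this
    have h4 : (x.1 : V) = 0 := (smul_eq_zero.1 h3).resolve_left h2
    rw [h4, zero_add] at hx
    refine Prod.ext (Subtype.ext h4) (Subtype.ext (A.mul_right_cancel hN ?_))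
    rw [hx]; simp
  have hsurj : Function.Surjective e₀ := fun x => by
    obtain ⟨a, y, ha, hy, rfl⟩ := decomp h2 hz x
    refine ⟨(⟨a, ha⟩, ⟨(A.N l)⁻¹ • A.m y (A.c l), ?_⟩), ?_⟩
    · change z.1 _ = _
      rw [map_smul, Comp.aut_mul, Comp.aut_c, hy, hl]
      simp
    · rw [he₀]
      simp only [map_smul, LinearMap.smul_apply, A.altR, smul_smul, inv_mul_cancel₀ hN, one_smul]
  let e := LinearEquiv.ofBijective e₀ ⟨hinj, hsurj⟩
  have hfin : finrank F H = 4 := by
    have : FiniteDimensional F V := Module.finite_of_finrank_pos (by omega)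
    have h1 := e.finrank_eq
    rw [Module.finrank_prod, hV] at h1
    omega
  refine ⟨H, inferInstance, inferInstance, c, N, -A.N l, e, ⟨fun a b => Subtype.ext (A.c_mul _ _),
    fun a => Subtype.ext (A.c_c _), fun a => Subtype.ext (A.c_def _),
    fun a => Subtype.ext (A.mul_c _), fun a => Subtype.ext (A.c_mul_self _),
    fun a b => A.N_mul _ _, fun a => A.N_c _, A.N_e, ?_, hfin⟩, neg_ne_zero.2 hN, ?_, hze⟩
  · refine o_nondeg_of fun x hx => Subtype.ext (o_eq_zero A.nondeg fun w => ?_)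
    obtain ⟨a, y, ha, hy, rfl⟩ := decomp h2 hz w
    rw [polar_add_right, perp_of h2 (hH x) hy, add_zero]
    exact hx ⟨a, ha⟩
  · intro x y
    change e₀ _ = A.m (e₀ x) (e₀ y)
    rw [he₀, he₀, he₀]
    simp only [dmul, Submodule.coe_add, Submodule.coe_smul, hmul, hc, map_add, LinearMap.add_apply]
    rw [f1 h2 hl (hH _) (hH _), f2 h2 hl _ (hH _), f3 h2 hl (hH _) (hH _)]
    abel

/-- The centralizer of an involution of an octonion algebra is a special orthogonal group of
plus type in dimension 4. -/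
theorem exists_centralizer_hom [Finite F] (h2 : (2 : F) ≠ 0) (hV : finrank F V = 8)
    (hz : z * z = 1) (hz1 : z ≠ 1) :
    ∃ (H : Type u) (_ : AddCommGroup H) (_ : Module F H) (_ : FiniteDimensional F H)
      (N : QuadraticForm F H) (hN : (polarBilin N).Nondegenerate), finrank F H = 4 ∧
      IsSquare (quad_disc N (Module.finBasis F H)) ∧
      ∃ ρ : Subgroup.centralizer ({z} : Set A.Aut) →* OG N, Function.Injective ρ ∧
        ρ.range = (dickson hN).ker := by
  obtain ⟨H, _, _, c, N, lam, e, h, hlam, hm, hze⟩ := exists_double h2 hV hz hz1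
  have := h.finiteDimensional
  obtain ⟨ρ, h1, h3⟩ := exists_rho h2 h hlam hm hze
  exact ⟨H, inferInstance, inferInstance, this, N, h.nondeg, h.finrank_eq, h.disc_isSquare h2 _,
    ρ, h1, h3⟩

end Split

end Cfsg.Agent.Oct
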